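import Groth.Agent.FFRH.Setup
import Mathlib.Analysis.Complex.Basic
import Mathlib.Topology.MetricSpace.Sequences
import Mathlib.Analysis.SpecificLimits.Normed

/-!
The Riemann hypothesis for function fields over finite fields.
-/

set_option autoImplicit false
set_option linter.style.haveILetI false
set_option linter.unusedSectionVars false

open FunFld Groth.Agent.FF Filter Topology

namespace Groth.Agent.FFRH

/-- Power sums control the largest modulus. -/
lemma norm_le_of_sum_pow {ι : Type*} [Fintype ι] (α : ι → ℂ) {s C : ℝ} (hs : 0 < s) {J : ℕ}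
    (h : ∀ a, J ≤ a → ‖∑ i, α i ^ a‖ ≤ C * s ^ a) (i₀ : ι) : ‖α i₀‖ ≤ s := by
  classical
  by_contra hlt
  obtain ⟨i₁, -, hmax⟩ := Finset.univ.exists_max_image (fun i => ‖α i‖) ⟨i₀, Finset.mem_univ _⟩
  set m := ‖α i₁‖ with hm
  have hsm : s < m := (not_le.1 hlt).trans_le (hmax i₀ (Finset.mem_univ _))
  have hm0 : 0 < m := hs.trans hsm
  set β : ι → ℂ := fun i => α i / (m : ℂ) with hβ
  have hnorm : ∀ i, ‖β i‖ = ‖α i‖ / m := fun i => by
    simp [hβ, Complex.norm_real, abs_of_pos hm0]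
  have hle : ∀ i, ‖β i‖ ≤ 1 := fun i => by
    rw [hnorm, div_le_one hm0]; exact hmax i (Finset.mem_univ _)
  have hbd : ∀ a : ℕ, (fun i => β i ^ a) ∈ Metric.closedBall (0 : ι → ℂ) 1 := fun a => by
    rw [mem_closedBall_zero_iff, pi_norm_le_iff_of_nonneg zero_le_one]
    exact fun i => by rw [norm_pow]; exact pow_le_one₀ (norm_nonneg _) (hle i)
  obtain ⟨w, -, φ, hφ, hlim⟩ := tendsto_subseq_of_bounded Metric.isBounded_closedBall hbd
  set N₀ : ℕ := Fintype.card ι
  set ε : ℝ := 1 / (4 * ((N₀ : ℝ) + 1)) with hε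
  have hε0 : 0 < ε := by positivity
  obtain ⟨N, hN⟩ := Metric.cauchySeq_iff.1 hlim.cauchySeq ε hε0
  have hr0 : 0 ≤ s / m := by positivity
  have hr1 : s / m < 1 := by rw [div_lt_one hm0]; exact hsm
  have he1 : ∀ᶠ d : ℕ in atTop, C * (s / m) ^ d < 1 / 2 := by
    have := (tendsto_pow_atTop_nhds_zero_of_lt_one hr0 hr1).const_mul C
    rw [mul_zero] at this
    exact this.eventually (eventually_lt_nhds (by norm_num))
  have he2 : ∀ᶠ d : ℕ in atTop, ∀ i, ‖β i‖ < 1 → ‖β i ^ d‖ < ε := by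
    refine eventually_all.2 fun i => ?_
    by_cases hi : ‖β i‖ < 1
    · have := (tendsto_pow_atTop_nhds_zero_of_lt_one (norm_nonneg (β i)) hi).eventually (eventually_lt_nhds hε0)
      filter_upwards [this] with d hd _
      rwa [norm_pow]
    · exact Eventually.of_forall fun d h => absurd h hi
  obtain ⟨D, hD⟩ := eventually_atTop.1 (he1.and (he2.and (eventually_ge_atTop J)))
  have hφadd : ∀ n, φ N + n ≤ φ (N + n) := fun n => by
    induction n with
    | zero => simp
    | succ n ih =>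
      have := hφ (show N + n < N + (n + 1) by omega)
      omega
  obtain ⟨d, hd⟩ := Nat.exists_eq_add_of_le ((Nat.le_add_right _ _).trans (hφadd D))
  have hDd : D ≤ d := by have := hφadd D; omega
  obtain ⟨h1, h2, h3⟩ := hD d hDd
  have hclose : ∀ i, ‖β i ^ d - if ‖β i‖ < 1 then 0 else 1‖ ≤ ε := by
    intro i
    split_ifs with hi
    · rw [sub_zero]; exact (h2 i hi).le
    · have hi1 : ‖β i‖ = 1 := le_antisymm (hle i) (not_lt.1 hi)
      have h4 := hN (N + D) (Nat.le_add_right _ _) N le_rfl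
      have h5 : ‖β i ^ φ (N + D) - β i ^ φ N‖ < ε := by
        refine lt_of_le_of_lt ?_ h4
        rw [← dist_eq_norm]
        exact dist_le_pi_dist (fun i => β i ^ φ (N + D)) (fun i => β i ^ φ N) i
      rw [hd, pow_add, ← mul_sub_one, norm_mul, norm_pow, hi1, one_pow, one_mul] at h5
      exact h5.le
  have hsum : ‖∑ i, β i ^ d‖ ≤ 1 / 2 := by
    have e : ∑ i, β i ^ d = (∑ i, α i ^ d) / (m : ℂ) ^ d := by
      simp only [hβ, div_pow, ← Finset.sum_div]
    rw [e, norm_div, norm_pow, Complex.norm_real, Real.norm_of_nonneg hm0.le, div_le_iff₀ (by positivity)]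
    refine (h d h3).trans ?_
    rw [show C * s ^ d = (C * (s / m) ^ d) * m ^ d by rw [div_pow]; field_simp]
    exact mul_le_mul_of_nonneg_right h1.le (by positivity)
  set U := Finset.univ.filter fun i => ¬ ‖β i‖ < 1 with hU
  have hUne : 1 ≤ U.card := Finset.card_pos.2 ⟨i₁, Finset.mem_filter.2
    ⟨Finset.mem_univ _, by rw [hnorm, ← hm, div_self hm0.ne']; exact lt_irrefl 1⟩⟩
  have hsplit : ‖∑ i, β i ^ d - (U.card : ℂ)‖ ≤ (N₀ : ℝ) * ε := by
    have e : (U.card : ℂ) = ∑ i : ι, if ‖β i‖ < 1 then (0 : ℂ) else 1 := by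
      rw [Finset.sum_ite, Finset.sum_const_zero, zero_add, Finset.sum_const, nsmul_one, hU]
    rw [e, ← Finset.sum_sub_distrib]
    refine (norm_sum_le _ _).trans ?_
    refine (Finset.sum_le_card_nsmul _ _ ε fun i _ => hclose i).trans (le_of_eq ?_)
    rw [nsmul_eq_mul]; rfl
  have hlow : (U.card : ℝ) ≤ ‖∑ i, β i ^ d‖ + (N₀ : ℝ) * ε := by
    have := norm_sub_norm_le (U.card : ℂ) (∑ i, β i ^ d)
    rw [Complex.norm_natCast, norm_sub_rev] at this
    linarith
  have hεN : (N₀ : ℝ) * ε ≤ 1 / 4 := by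
    rw [hε, ← mul_div_assoc, mul_one, div_le_iff₀ (by positivity)]
    linarith
  have : (1 : ℝ) ≤ (U.card : ℝ) := by exact_mod_cast hUne
  linarith

variable {k K : Type*} [Field k] [Finite k] [Field K] [Algebra k K] (hK : IsFunctionField k K)
include hK

/-- The reciprocal roots have modulus `√q`. -/
theorem exists_roots_rh :
    ∃ α : Fin (2 * genus k K) → ℂ,
      PowerSeries.map (Int.castRingHom ℂ) (numerZ k K) =
        ((∏ i, (1 - Polynomial.C (α i) * Polynomial.X) : Polynomial ℂ) : PowerSeries ℂ) ∧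
      ∀ i, ‖α i‖ ^ 2 = (Nat.card k : ℝ) := by
  obtain ⟨α, -, hα, hpair⟩ := Zeta.exists_roots hK
  obtain ⟨n, C, J, hn, hb⟩ := exists_bound hK
  set q : ℝ := (Nat.card k : ℝ) with hq
  have hq1 : 1 ≤ q := by rw [hq]; exact_mod_cast Nat.card_pos
  have hle : ∀ i, ‖α i‖ ^ 2 ≤ q := by
    intro i
    have h := norm_le_of_sum_pow (fun i => α i ^ (2 * n)) (s := q ^ n) (C := C + 1) (by positivity)
      (J := max J 1) (fun a ha => ?_) i
    · simp only [norm_pow, pow_mul] at h
      exact (pow_le_pow_iff_left₀ (by positivity) (by positivity) hn.ne').1 h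
    have hb' := hb a (le_of_max_le_left ha)
    have he := Zeta.ptCount_eq hK α hα (j := n * (2 * a)) (Nat.mul_pos hn (by omega))
    have e : ∑ i, (α i ^ (2 * n)) ^ a =
        ((1 + (q ^ n) ^ (2 * a) - (Zeta.ptCount k K (n * (2 * a)) : ℝ) : ℝ) : ℂ) := by
      push_cast
      rw [he, hq]
      push_cast
      simp only [← pow_mul]
      rw [show 2 * n * a = n * (2 * a) by ring]
      ring
    rw [e, Complex.norm_real, Real.norm_eq_abs]
    have h1 : (1 : ℝ) ≤ (q ^ n) ^ a := one_le_pow₀ (one_le_pow₀ hq1)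
    rw [abs_le] at hb' ⊢
    constructor <;> nlinarith [hb'.1, hb'.2]
  refine ⟨α, hα, fun i => le_antisymm (hle i) ?_⟩
  have h2 : ‖α i‖ ^ 2 * ‖α i.rev‖ ^ 2 = q ^ 2 := by
    rw [← mul_pow, ← norm_mul, hpair i, Complex.norm_natCast]
  have h3 : q ^ 2 ≤ ‖α i‖ ^ 2 * q := h2 ▸ mul_le_mul_of_nonneg_left (hle i.rev) (by positivity)
  nlinarith

theorem norm_root (p : Polynomial ℤ) (hp : (p : PowerSeries ℤ) = numerZ k K) (z : ℂ)
    (hz : (p.map (Int.castRingHom ℂ)).IsRoot z) : ‖z‖ ^ 2 * (Nat.card k : ℝ) = 1 := by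
  obtain ⟨α, hα, hn⟩ := exists_roots_rh hK
  have hP : p.map (Int.castRingHom ℂ) = ∏ i, (1 - Polynomial.C (α i) * Polynomial.X) := by
    apply Polynomial.coe_injective ℂ
    rw [Polynomial.polynomial_map_coe, hp, hα]
  rw [hP, Polynomial.IsRoot, Polynomial.eval_prod, Finset.prod_eq_zero_iff] at hz
  obtain ⟨i, -, hi⟩ := hz
  simp only [Polynomial.eval_sub, Polynomial.eval_one, Polynomial.eval_mul, Polynomial.eval_C,
    Polynomial.eval_X, sub_eq_zero] at hi
  rw [← hn i, ← mul_pow, ← norm_mul, mul_comm, ← hi, norm_one, one_pow]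

theorem card_deg_one_bound :
    |(Nat.card {P : Place k K // P.deg = 1} : ℝ) - (Nat.card k : ℝ) - 1| ≤
      2 * (genus k K : ℝ) * Real.sqrt (Nat.card k : ℝ) := by
  obtain ⟨α, hα, hn⟩ := exists_roots_rh hK
  rw [Zeta.card_deg_one hK]
  have he := Zeta.ptCount_eq hK α hα (le_refl 1)
  have e : (((Zeta.ptCount k K 1 : ℝ) - (Nat.card k : ℝ) - 1 : ℝ) : ℂ) = -∑ i, α i := by
    push_cast
    rw [he]
    simp only [pow_one]
    ring
  rw [← Real.norm_eq_abs, ← Complex.norm_real, e, norm_neg]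
  refine (norm_sum_le _ _).trans ?_
  have h1 : ∀ i ∈ Finset.univ, ‖α i‖ ≤ Real.sqrt (Nat.card k : ℝ) := fun i _ => by
    rw [← hn i, Real.sqrt_sq (norm_nonneg _)]
  refine (Finset.sum_le_card_nsmul _ _ _ h1).trans (le_of_eq ?_)
  simp

end Groth.Agent.FFRH
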