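import Groth.Agent.FF.ConstExtBuild
import Groth.Agent.FF.Linear

/-!
Bombieri's bound for places where an automorphism acts as Frobenius.
-/

set_option autoImplicit false
set_option linter.style.haveILetI false
set_option linter.unusedSectionVars false

open FunFld WithZero Groth.Agent.FF
open scoped TensorProduct

namespace Groth.Agent.FFRH

variable {k K : Type*} [Field k] [Field K] [Algebra k K]

/-- `σ` acts as `z ↦ z ^ Q` on the residue field of `P`. -/
def IsFrob (σ : K → K) (Q : ℕ) (P : Place k K) : Prop :=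
  ∀ z : K, P.1 z ≤ 1 → P.1 (σ z - z ^ Q) < 1

/-- The place `σ⁻¹ P`. -/
def pullAut (P : Place k K) (σ : K ≃ₐ[k] K) : Place k K :=
  ⟨P.1.comap σ.toRingEquiv.toRingHom, fun c => by
    show P.1 (σ (algebraMap k K c)) ≤ 1
    rw [σ.commutes]; exact P.2.1 c,
   fun g => by
    obtain ⟨x, hx⟩ := P.2.2 g
    exact ⟨σ.symm x, by show P.1 (σ (σ.symm x)) = g; rw [σ.apply_symm_apply, hx]⟩⟩

lemma pullAut_val (P : Place k K) (σ : K ≃ₐ[k] K) (x : K) : (pullAut P σ).1 x = P.1 (σ x) := rfl

lemma pullAut_injective {P P' : Place k K} (σ : K ≃ₐ[k] K) (h : pullAut P σ = pullAut P' σ) :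
    P = P' := by
  refine Subtype.ext (Valuation.ext fun x => ?_)
  have := congrArg (fun R : Place k K => R.1 (σ.symm x)) h
  simpa [pullAut_val] using this

lemma IsFrob.pullAut_eq {σ : K ≃ₐ[k] K} {Q : ℕ} {P : Place k K} (h : IsFrob σ Q P) :
    pullAut P σ = P := by
  refine (ext_of_O fun z hz => ?_).symm
  rw [pullAut_val, show σ z = (σ z - z ^ Q) + z ^ Q by ring]
  exact (P.1.map_add _ _).trans (max_le (h z hz).le (by rw [map_pow]; exact pow_le_one₀ zero_le hz))

lemma IsFrob.congr_lt {σ : K → K} {Q : ℕ} {P : Place k K} (h : IsFrob σ Q P) {u s : K}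
    (hu : P.1 u ≤ 1) (hs : P.1 s ≤ 1) : P.1 (σ u * s - u ^ Q * s) < 1 := by
  rw [← sub_mul, map_mul]
  exact lt_of_le_of_lt (mul_le_of_le_one_right zero_le hs) (h u hu)

lemma deg_pullAut (P : Place k K) (σ : K ≃ₐ[k] K) : (pullAut P σ).deg = P.deg := by
  let e : (pullAut P σ).O ≃+* P.O :=
    { toFun := fun x => ⟨σ x, x.2⟩
      invFun := fun x => ⟨σ.symm x, by
        show P.1 (σ (σ.symm x)) ≤ 1
        rw [σ.apply_symm_apply]; exact (mem_O P).1 x.2⟩
      left_inv := fun x => Subtype.ext (σ.symm_apply_apply _)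
      right_inv := fun x => Subtype.ext (σ.apply_symm_apply _)
      map_mul' := fun x y => Subtype.ext (map_mul σ _ _)
      map_add' := fun x y => Subtype.ext (map_add σ _ _) }
  exact LinearEquiv.finrank_eq
    { (IsLocalRing.ResidueField.mapEquiv e).toAddEquiv with
      map_smul' := fun c x => by
        obtain ⟨a, rfl⟩ := IsLocalRing.residue_surjective x
        exact congrArg (IsLocalRing.residue P.O) (Subtype.ext (show
          σ (algebraMap k K c * (a : K)) = algebraMap k K c * σ (a : K) by rw [map_mul, σ.commutes])) }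

variable [Finite k]

theorem bombieri (hL : IsFunctionField k K) {P₀ : Place k K} (hP₀ : P₀.deg = 1) (σ : K ≃ₐ[k] K)
    (a : ℕ) (ha : genus k K * genus k K + 3 * genus k K + 3 ≤ Nat.card k ^ a)
    (S : Finset (Place k K)) (hS : ∀ P ∈ S, IsFrob σ ((Nat.card k ^ a) ^ 2) P) :
    (∑ P ∈ S, (P.deg : ℤ)) ≤
      ((Nat.card k : ℤ) ^ a) ^ 2 + (2 * genus k K + 1) * (Nat.card k : ℤ) ^ a := by
  classical
  set g := genus k K
  set q₀ := Nat.card k ^ a with hq₀
  have hq1 : g * g + 3 * g + 3 ≤ q₀ := ha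
  haveI : Fintype k := Fintype.ofFinite k
  obtain ⟨p, hchar⟩ := CharP.exists k
  haveI : Fact p.Prime := ⟨CharP.char_is_prime k p⟩
  haveI : CharP K p := charP_of_injective_algebraMap (algebraMap k K).injective p
  obtain ⟨e, hp, he⟩ := FiniteField.card k p
  have hq₀p : q₀ = p ^ ((e : ℕ) * a) := by
    rw [hq₀, Nat.card_eq_fintype_card, he, pow_mul]
  have hadd : ∀ x y : K, (x + y) ^ q₀ = x ^ q₀ + y ^ q₀ := fun x y => by
    rw [hq₀p]; exact add_pow_char_pow x y p _
  have hconst : ∀ c : k, c ^ q₀ = c := fun c => by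
    rw [hq₀, Nat.card_eq_fintype_card]; exact FiniteField.pow_card_pow a c
  let Fr : K →ₗ[k] K :=
    { toFun := fun x => x ^ q₀
      map_add' := hadd
      map_smul' := fun c x => by
        simp only [Algebra.smul_def, mul_pow, ← map_pow, hconst, RingHom.id_apply] }
  -- the auxiliary spaces
  set m := q₀ - 1 with hm
  set l := q₀ + 2 * g with hl
  set U := L (Finsupp.single P₀ (l : ℤ) : Divisor k K) with hU
  set V := L (Finsupp.single P₀ (m : ℤ) : Divisor k K) with hV
  set P₁ := pullAut P₀ σ.symm with hP₁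
  set T := L (Finsupp.single P₁ (l : ℤ) + Finsupp.single P₀ ((q₀ * m : ℕ) : ℤ) : Divisor k K) with hT
  haveI := finiteDimensional_L hL.1 (Finsupp.single P₀ (l : ℤ) : Divisor k K)
  haveI := finiteDimensional_L hL.1 (Finsupp.single P₀ (m : ℤ) : Divisor k K)
  haveI := finiteDimensional_L hL.1
    (Finsupp.single P₁ (l : ℤ) + Finsupp.single P₀ ((q₀ * m : ℕ) : ℤ) : Divisor k K)
  have hmem_single : ∀ (R : Place k K) (n : ℕ) (x : K), x ∈ L (Finsupp.single R (n : ℤ) : Divisor k K) →
      ∀ P, P ≠ R → P.1 x ≤ 1 := fun R n x hx P hP => by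
    simpa [Finsupp.single_apply, Ne.symm hP] using hx P
  -- independence of a triangular family over `q₀`-th powers
  have hVb : ∀ (j : ℕ) (u : Fin j → K) (s : Fin j → K) (o : Fin j → ℕ),
      (∀ i, o i ≤ m) → Function.Injective o → (∀ i, P₀.1 (s i) = exp (o i : ℤ)) →
      ∑ i, u i ^ q₀ * s i = 0 → ∀ i, u i = 0 := by
    intro j u s o ho hinj hs hsum i₀
    by_contra hne
    have hs0 : ∀ i, s i ≠ 0 := fun i => ne_zero_of_val_eq_exp P₀ (hs i)
    have hval : ∀ i, u i ≠ 0 →
        P₀.1 (u i ^ q₀ * s i) = exp ((o i : ℤ) - q₀ * P₀.ord (u i)) := fun i hi => by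
      rw [map_mul, map_pow, hs i, val_eq_exp_ord P₀ hi, ← exp_nsmul, ← exp_add, exp_inj]
      simp only [nsmul_eq_mul]
      ring
    obtain ⟨i₁, hi₁, hmax⟩ := (Finset.univ.filter fun i => u i ≠ 0).exists_max_image
      (fun i => P₀.1 (u i ^ q₀ * s i)) ⟨i₀, by simp [hne]⟩
    have hi₁0 : u i₁ ≠ 0 := (Finset.mem_filter.1 hi₁).2
    have hlt : ∀ i ∈ (Finset.univ : Finset (Fin j)).erase i₁,
        P₀.1 (u i ^ q₀ * s i) < P₀.1 (u i₁ ^ q₀ * s i₁) := by
      intro i hi
      have hii : i ≠ i₁ := (Finset.mem_erase.1 hi).1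
      by_cases h0 : u i = 0
      · rw [h0, zero_pow (by omega), zero_mul, map_zero, hval i₁ hi₁0]
        exact exp_pos
      refine lt_of_le_of_ne (hmax i (by simp [h0])) fun heq => hii (hinj ?_)
      rw [hval i h0, hval i₁ hi₁0, exp_inj] at heq
      have hd : (q₀ : ℤ) ∣ (o i : ℤ) - o i₁ :=
        ⟨P₀.ord (u i) - P₀.ord (u i₁), by linarith⟩
      have hb1 := ho i
      have hb2 := ho i₁
      have : (o i : ℤ) - o i₁ = 0 := by
        refine Int.eq_zero_of_abs_lt_dvd hd ?_
        rw [abs_lt]; omega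
      omega
    have hsum' := hsum
    rw [← Finset.add_sum_erase _ _ (Finset.mem_univ i₁)] at hsum'
    have h2 : P₀.1 (∑ i ∈ Finset.univ.erase i₁, u i ^ q₀ * s i) < P₀.1 (u i₁ ^ q₀ * s i₁) := by
      refine Valuation.map_sum_lt _ ?_ hlt
      exact (Valuation.ne_zero_iff _).2 (mul_ne_zero (pow_ne_zero _ hi₁0) (hs0 i₁))
    have := Valuation.map_add_eq_of_lt_left P₀.1 h2
    rw [hsum', map_zero] at this
    exact (Valuation.ne_zero_iff _).2 (mul_ne_zero (pow_ne_zero _ hi₁0) (hs0 i₁)) this.symm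
  -- a basis of `V` with distinct orders at `P₀`
  let J : Finset ℕ := (Finset.range (m + 1)).filter fun n : ℕ => ∃ x ∈ V, P₀.1 x = exp (n : ℤ)
  have hJ : ∀ n ∈ J, ∃ x ∈ V, P₀.1 x = exp (n : ℤ) := fun n hn => (Finset.mem_filter.1 hn).2
  choose! sJ hsJV hsJ using hJ
  have hcard : (m : ℤ) + 1 - g ≤ J.card := by
    have key : ∀ n, n ≤ m → ell (Finsupp.single P₀ (n : ℤ) : Divisor k K) ≤
        ((Finset.range (n + 1)).filter fun i : ℕ => ∃ x ∈ V, P₀.1 x = exp (i : ℤ)).card := by
      intro n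
      induction n with
      | zero =>
        intro _
        have h1 : (1 : K) ∈ V := L_mono (Finsupp.single_nonneg.2 (Int.natCast_nonneg m))
          (by simpa using L_zero_le_of_const (K := K) (1 : k))
        rw [Nat.cast_zero, Finsupp.single_zero, ell_zero hL]
        exact Finset.card_pos.2 ⟨0, Finset.mem_filter.2 ⟨by simp, 1, h1, by simp⟩⟩
      | succ n ih =>
        intro hn
        have hstep := (ell_sub_single_le hL (Finsupp.single P₀ ((n + 1 : ℕ) : ℤ)) P₀).2
        have e : (Finsupp.single P₀ ((n + 1 : ℕ) : ℤ) : Divisor k K) - Finsupp.single P₀ 1 =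
            Finsupp.single P₀ (n : ℤ) := by
          rw [← Finsupp.single_sub]; simp
        rw [e, hP₀] at hstep
        rw [Finset.range_add_one (n := n + 1), Finset.filter_insert]
        split_ifs with h
        · rw [Finset.card_insert_of_notMem (by simp)]
          have := ih (by omega)
          omega
        · have hno : ¬ ell (Finsupp.single P₀ (n : ℤ) : Divisor k K) <
              ell (Finsupp.single P₀ ((n + 1 : ℕ) : ℤ) : Divisor k K) := by
            rw [← e, ell_lt_iff_exists hL]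
            rintro ⟨x, hx, hxP⟩
            refine h ⟨x, L_mono (Finsupp.single_le_single.2 (by omega)) hx, ?_⟩
            simpa using hxP
          have := ih (by omega)
          omega
    have h1 := spec_le_genus hL (Finsupp.single P₀ (m : ℤ) : Divisor k K)
    rw [spec, deg_single, hP₀, Nat.cast_one, mul_one] at h1
    have h2 := key m le_rfl
    have : ((Finset.range (m + 1)).filter fun i : ℕ => ∃ x ∈ V, P₀.1 x = exp (i : ℤ)) = J := rfl
    rw [this] at h2
    omega
  -- the two maps
  let Φ : (J → U) →ₗ[k] K :=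
    ∑ n : J, (LinearMap.mulRight k (sJ n)).comp ((Fr.comp U.subtype).comp (LinearMap.proj n))
  let Ψ : (J → U) →ₗ[k] T :=
    LinearMap.codRestrict T (∑ n : J, (LinearMap.mulRight k (sJ n ^ q₀)).comp
      ((σ.toLinearMap.comp U.subtype).comp (LinearMap.proj n))) fun u => by
    rw [LinearMap.sum_apply]
    refine Submodule.sum_mem _ fun n _ => ?_
    simp only [LinearMap.comp_apply, LinearMap.proj_apply, Submodule.coe_subtype,
      AlgEquiv.toLinearMap_apply, LinearMap.mulRight_apply]
    intro P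
    rw [map_mul, map_pow, Finsupp.add_apply, exp_add]
    refine mul_le_mul' ?_ ?_
    · have h1 := (u n).2 (pullAut P σ)
      rw [pullAut_val] at h1
      refine h1.trans (le_of_eq ?_)
      rw [exp_inj]
      by_cases hP : P = P₁
      · subst hP
        have : pullAut P₁ σ = P₀ := Subtype.ext (Valuation.ext fun x => by simp [hP₁, pullAut_val])
        rw [this]; simp
      · rw [Finsupp.single_eq_of_ne hP, Finsupp.single_eq_of_ne]
        intro e
        refine hP (pullAut_injective σ ?_)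
        rw [e]
        exact (Subtype.ext (Valuation.ext fun x => by simp [hP₁, pullAut_val])).symm
    · have h1 := hsJV n.1 n.2 P
      refine (pow_le_pow_left₀ zero_le h1 q₀).trans (le_of_eq ?_)
      rw [← exp_nsmul, exp_inj, ← Finsupp.smul_apply, Finsupp.smul_single]
      simp
  have hΦ : ∀ u, Φ u = 0 → u = 0 := by
    intro u hu
    let e := (Finset.equivFinOfCardEq (s := J) rfl).symm
    have hu' : ∑ i, (u (e i) : K) ^ q₀ * sJ (e i) = 0 := by
      rw [Equiv.sum_comp e (fun n => (u n : K) ^ q₀ * sJ n)]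
      simpa [Φ, Fr] using hu
    have h := hVb _ _ (fun i => sJ (e i)) (fun i => (e i).1)
      (fun i => Nat.lt_succ_iff.1 (Finset.mem_range.1 (Finset.mem_filter.1 (e i).2).1))
      (fun i i' h => e.injective (Subtype.ext h)) (fun i => hsJ _ (e i).2) hu'
    funext n
    have := h (e.symm n)
    rw [e.apply_symm_apply] at this
    exact Subtype.ext this
  -- dimension count
  have hlt : Module.finrank k T < Module.finrank k (J → U) := by
    rw [Module.finrank_pi_fintype, Finset.sum_const, Finset.card_univ, Fintype.card_coe, smul_eq_mul]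
    have hU' : ((l : ℤ) + 1 - g) ≤ Module.finrank k U := by
      have h1 := spec_le_genus hL (Finsupp.single P₀ (l : ℤ) : Divisor k K)
      rw [spec, deg_single, hP₀, Nat.cast_one, mul_one] at h1
      unfold ell at h1
      show ((l : ℤ) + 1 - g) ≤ (Module.finrank k ↥(L (Finsupp.single P₀ (l : ℤ) : Divisor k K)) : ℤ)
      omega
    have hT' : (Module.finrank k T : ℤ) = (l : ℤ) + q₀ * m + 1 - g := by
      have hd : Divisor.deg (Finsupp.single P₁ (l : ℤ) + Finsupp.single P₀ ((q₀ * m : ℕ) : ℤ) : Divisor k K) =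
          (l : ℤ) + q₀ * m := by
        have hP₁d : P₁.deg = 1 := (deg_pullAut P₀ σ.symm).trans hP₀
        rw [deg_add, deg_single, deg_single, hP₀, hP₁d]
        push_cast; ring
      have := ell_eq_of_deg_ge hL (D := (Finsupp.single P₁ (l : ℤ) + Finsupp.single P₀ ((q₀ * m : ℕ) : ℤ) :
        Divisor k K)) (by
          rw [hd]
          have : (0 : ℤ) ≤ (q₀ : ℤ) * m := by positivity
          omega)
      rw [hd] at this
      exact this
    have key : ((l : ℤ) + q₀ * m + 1 - g) < (J.card : ℤ) * Module.finrank k U := by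
      refine lt_of_lt_of_le ?_ (mul_le_mul hcard hU' (by omega) (by omega))
      have hmz : (m : ℤ) = q₀ - 1 := by omega
      have hq1z : (g : ℤ) * g + 3 * g + 3 ≤ q₀ := by exact_mod_cast hq1
      rw [hmz, hl]
      push_cast
      nlinarith
    have : (Module.finrank k T : ℤ) < ((J.card * Module.finrank k U : ℕ) : ℤ) := by
      rw [hT']; push_cast; exact key
    exact_mod_cast this
  obtain ⟨u, huker, hu0⟩ := Submodule.exists_mem_ne_zero_of_ne_bot
    (LinearMap.ker_ne_bot_of_finrank_lt (f := Ψ) hlt)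
  set z := Φ u with hz
  have hz0 : z ≠ 0 := fun e => hu0 (hΦ u e)
  have hΨ : ∑ n : J, σ (u n : K) * sJ n ^ q₀ = 0 := by
    have := congrArg Subtype.val (LinearMap.mem_ker.1 huker)
    simpa [Ψ] using this
  have hzexp : z = ∑ n : J, (u n : K) ^ q₀ * sJ n := by simp [hz, Φ, Fr]
  -- `z` lies in a space of small degree and vanishes at `S`
  have hzmem : z ∈ L (Finsupp.single P₀ ((q₀ * l + m : ℕ) : ℤ) : Divisor k K) := by
    rw [hzexp]
    refine Submodule.sum_mem _ fun n _ P => ?_
    rw [map_mul, map_pow]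
    refine (mul_le_mul' (pow_le_pow_left₀ zero_le ((u n).2 P) q₀) (hsJV n.1 n.2 P)).trans (le_of_eq ?_)
    rw [← exp_nsmul, ← exp_add, exp_inj, ← Finsupp.smul_apply, ← Finsupp.add_apply,
      Finsupp.smul_single, ← Finsupp.single_add]
    simp
  let S' := S.erase P₀
  have hvanish : ∀ P ∈ S', P.1 z < 1 := by
    intro P hP
    obtain ⟨hne, hPS⟩ := Finset.mem_erase.1 hP
    have hFr := hS P hPS
    have hu1 : ∀ n : J, P.1 (u n : K) ≤ 1 := fun n => hmem_single P₀ l _ (u n).2 P hne
    have hs1 : ∀ n : J, P.1 (sJ n) ≤ 1 := fun n => hmem_single P₀ m _ (hsJV n.1 n.2) P hne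
    have h1 : P.1 (z ^ q₀) < 1 := by
      have e : z ^ q₀ = ∑ n : J, (((u n : K)) ^ (q₀ ^ 2) * sJ n ^ q₀ - σ (u n : K) * sJ n ^ q₀) := by
        rw [Finset.sum_sub_distrib, hΨ, sub_zero, hzexp]
        show Fr _ = _
        rw [map_sum]
        refine Finset.sum_congr rfl fun n _ => ?_
        show ((u n : K) ^ q₀ * sJ n) ^ q₀ = _
        ring
      rw [e]
      refine Valuation.map_sum_lt _ one_ne_zero fun n _ => ?_
      rw [Valuation.map_sub_swap]
      exact hFr.congr_lt (hu1 n) (by rw [map_pow]; exact pow_le_one₀ zero_le (hs1 n))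
    rw [map_pow] at h1
    exact (pow_lt_one_iff_of_nonneg zero_le (by omega)).1 h1
  have hcount : (∑ P ∈ S', (P.deg : ℤ)) ≤ (q₀ * l + m : ℕ) := by
    have h1 : (∑ P ∈ S', Finsupp.single P (1 : ℤ) : Divisor k K) ≤
        Finsupp.single P₀ ((q₀ * l + m : ℕ) : ℤ) + FunFld.div k z := by
      intro P
      have h2 := (mem_L_iff hL.1 hz0).1 hzmem P
      rw [Finsupp.finsetSum_apply]
      simp only [Finsupp.single_apply, Finset.sum_ite_eq']
      split_ifs with hP
      · have h3 := hvanish P hP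
        rw [val_lt_one_iff P hz0] at h3
        have hne := (Finset.mem_erase.1 hP).1
        simp only [Finsupp.add_apply, Finsupp.single_eq_of_ne hne, div_apply hL.1]
        omega
      · simpa using h2
    have := deg_mono h1
    rw [deg_add, deg_div hL.1, deg_single, hP₀] at this
    refine le_trans (le_of_eq ?_) (by simpa using this)
    rw [← Zeta.degHom_apply, map_sum]
    exact Finset.sum_congr rfl fun P _ => by rw [Zeta.degHom_apply, deg_single, one_mul]
  have hsum : (∑ P ∈ S, (P.deg : ℤ)) ≤ (∑ P ∈ S', (P.deg : ℤ)) + 1 := by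
    by_cases h : P₀ ∈ S
    · rw [← Finset.sum_erase_add _ _ h, hP₀]
      simp [S']
    · simp [S', Finset.erase_eq_of_notMem h]
  calc (∑ P ∈ S, (P.deg : ℤ)) ≤ ((q₀ * l + m : ℕ) : ℤ) + 1 := by omega
    _ ≤ _ := by
      rw [← Nat.cast_pow, ← hq₀]
      have : (1 : ℕ) ≤ q₀ := by omega
      push_cast [hl, hm, Nat.cast_sub this]
      nlinarith

end Groth.Agent.FFRH
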