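import Groth.Agent.FFRH.Bombieri

/-!
Counting automorphisms acting as Frobenius at the places of a Galois extension.
-/

set_option autoImplicit false
set_option linter.style.haveILetI false
set_option linter.unusedSectionVars false

open FunFld WithZero Groth.Agent.FF
open scoped Pointwise

namespace Groth.Agent.FFRH

variable {k K : Type*} [Field k] [Finite k] [Field K] [Algebra k K]

/-- Reduction of a power of the residue Frobenius. -/
lemma val_pow_card_sub {Q : Place k K} (hK : IsFunctionField k K) {z : K} (hz : Q.1 z ≤ 1) (i : ℕ) :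
    Q.1 (z ^ Nat.card k ^ (i % Q.deg) - z ^ Nat.card k ^ i) < 1 := by
  set F := IsLocalRing.ResidueField Q.O
  letI : Module k F := Algebra.toModule
  haveI : Module.Finite k F := finiteDimensional_residueField hK.1 Q
  haveI : Finite F := Module.finite_of_finite k
  haveI : Fintype F := Fintype.ofFinite F
  have hcard : Fintype.card F = Nat.card k ^ Q.deg := by
    rw [← Nat.card_eq_fintype_card, Module.natCard_eq_pow_finrank (K := k) (V := F)]
    rfl
  let y : Q.O := ⟨z, (mem_O Q).2 hz⟩
  have key : resHom Q (y ^ Nat.card k ^ (i % Q.deg) - y ^ Nat.card k ^ i) = 0 := by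
    rw [map_sub, map_pow, map_pow, sub_eq_zero]
    conv_rhs => rw [← Nat.mod_add_div i Q.deg, pow_add, pow_mul, pow_mul (Nat.card k), ← hcard,
      FiniteField.pow_card_pow]
  exact (resHom_eq_zero_iff Q).1 key

/-- The residue field sees the exponent of Frobenius modulo the degree. -/
lemma deg_dvd_of_forall {Q : Place k K} (hK : IsFunctionField k K) {i : ℕ}
    (h : ∀ z : K, Q.1 z ≤ 1 → Q.1 (z - z ^ Nat.card k ^ i) < 1) : Q.deg ∣ i := by
  set F := IsLocalRing.ResidueField Q.O
  letI : Module k F := Algebra.toModule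
  haveI : Module.Finite k F := finiteDimensional_residueField hK.1 Q
  haveI : Finite F := Module.finite_of_finite k
  haveI : Fintype k := Fintype.ofFinite k
  haveI : Algebra.IsAlgebraic k F := Algebra.IsAlgebraic.of_finite k F
  have h1 : (FiniteField.frobeniusAlgEquivOfAlgebraic k F) ^ i = 1 := by
    refine AlgEquiv.ext fun y => ?_
    obtain ⟨⟨z, hz⟩, rfl⟩ := IsLocalRing.residue_surjective y
    rw [AlgEquiv.coe_pow, FiniteField.coe_frobeniusAlgEquivOfAlgebraic_iterate]
    have h2 := h z ((mem_O Q).1 hz)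
    rw [← Valuation.map_sub_swap, Nat.card_eq_fintype_card] at h2
    show (IsLocalRing.residue Q.O ⟨z, hz⟩) ^ (Fintype.card k ^ i) = IsLocalRing.residue Q.O ⟨z, hz⟩
    rw [← map_pow, ← sub_eq_zero, ← map_sub, IsLocalRing.residue_eq_zero_iff, mem_maximalIdeal]
    exact h2
  have h3 := orderOf_dvd_of_pow_eq_one h1
  rw [FiniteField.orderOf_frobeniusAlgEquivOfAlgebraic] at h3
  exact h3

variable {K' : Type*} [Field K'] [Algebra K K'] [Algebra k K'] [IsScalarTower k K K']
  [FiniteDimensional K K']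

omit [FiniteDimensional K K'] in
lemma deg_below_dvd (hK : IsFunctionField k K) {σ : K' → K'} (hσ : ∀ x : K, σ (algebraMap K K' x) = algebraMap K K' x)
    {R : ℕ} {Q : Place k K'} {P : Place k K} (hov : IsOver Q P)
    (h : IsFrob σ (Nat.card k ^ R) Q) : P.deg ∣ R := by
  refine deg_dvd_of_forall hK fun z hz => ?_
  have h1 := h (algebraMap K K' z) ((val_algebraMap_le_one_iff hov z).2 hz)
  rw [hσ, ← map_pow, ← map_sub, val_algebraMap_lt_one_iff hov] at h1
  exact h1

variable [IsGalois K K']

theorem card_frob (hK : IsFunctionField k K) (hK' : IsFunctionField k K') {P : Place k K}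
    {Q : Place k K'} {e : ℕ} (he : IsOverWith Q P e) {R : ℕ} (hR : P.deg ∣ R) :
    Nat.card {σ : K' ≃ₐ[K] K' // IsFrob σ (Nat.card k ^ R) Q} = e := by
  classical
  have hov : IsOver Q P := ⟨e, he⟩
  set F := IsLocalRing.ResidueField Q.O
  letI : Module k F := Algebra.toModule
  haveI : Module.Finite k F := finiteDimensional_residueField hK'.1 Q
  haveI : Finite F := Module.finite_of_finite k
  haveI : Fintype k := Fintype.ofFinite k
  haveI : Algebra.IsAlgebraic k F := Algebra.IsAlgebraic.of_finite k F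
  haveI : Algebra.IsSeparable k F := inferInstance
  let C : ℕ → Finset (K' ≃ₐ[K] K') := fun i =>
    Finset.univ.filter fun σ : K' ≃ₐ[K] K' => IsFrob σ (Nat.card k ^ i) Q
  let D : Finset (K' ≃ₐ[K] K') :=
    Finset.univ.filter fun σ : K' ≃ₐ[K] K' => σ ∈ (Q.O).decompositionSubgroup K
  have hCD : ∀ i, ∀ σ ∈ C i, σ ∈ D := by
    intro i σ hσ
    simp only [C, D, Finset.mem_filter, Finset.mem_univ, true_and] at hσ ⊢
    refine (mem_decomposition_iff Q σ).2 ((ext_of_O fun z hz => ?_).symm)
    rw [pull_val, show σ z = (σ z - z ^ Nat.card k ^ i) + z ^ Nat.card k ^ i by ring]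
    exact (Q.1.map_add _ _).trans (max_le (hσ z hz).le (by rw [map_pow]; exact pow_le_one₀ zero_le hz))
  -- fibres are cosets of inertia
  have hle : ∀ i, (C i).card ≤ e := by
    intro i
    rcases (C i).eq_empty_or_nonempty with h0 | ⟨τ, hτ⟩
    · simp [h0]
    rw [← card_inertia hK.1 he, Nat.card_eq_fintype_card, ← Finset.card_univ]
    refine Finset.card_le_card_of_injOn
      (fun σ => if h : τ⁻¹ * σ ∈ inertiaG (K := K) Q then (⟨τ⁻¹ * σ, h⟩ : inertiaG (K := K) Q) else 1)
      (fun σ _ => Finset.mem_coe.2 (Finset.mem_univ _)) ?_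
    have hin : ∀ σ ∈ C i, τ⁻¹ * σ ∈ inertiaG (K := K) Q := by
      intro σ hσ
      refine (inertia_map_iff Q _).2 fun z hz => ?_
      have hτD := Subgroup.inv_mem _ ((Finset.mem_filter.1 (hCD i τ hτ)).2)
      rw [AlgEquiv.mul_apply, show τ⁻¹ (σ z) - z = τ⁻¹ (σ z - τ z) by
        rw [map_sub]; simp [← AlgEquiv.mul_apply], le_one_of_mem_decomposition hτD, le_exp_neg_one_iff]
      have h1 := (Finset.mem_filter.1 hσ).2 z hz
      have h2 := (Finset.mem_filter.1 hτ).2 z hz
      rw [show σ z - τ z = (σ z - z ^ Nat.card k ^ i) - (τ z - z ^ Nat.card k ^ i) by ring]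
      exact lt_of_le_of_lt (Q.1.map_sub _ _) (max_lt h1 h2)
    intro σ hσ σ' hσ' h
    simp only [dif_pos (hin σ hσ), dif_pos (hin σ' hσ'), Subtype.mk.injEq] at h
    exact mul_left_cancel h
  -- every element of the decomposition group is somewhere
  obtain ⟨f, hf⟩ : P.deg ∣ Q.deg := deg_dvd_of_forall hK fun z hz => by
    have h1 := val_pow_card_sub hK' ((val_algebraMap_le_one_iff hov z).2 hz) Q.deg
    rw [Nat.mod_self, pow_zero, pow_one, ← map_pow, ← map_sub, val_algebraMap_lt_one_iff hov] at h1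
    exact h1
  have hPpos : 0 < P.deg := deg_pos hK.1 P
  have hQpos : 0 < Q.deg := deg_pos hK'.1 Q
  have hcover : D ⊆ (Finset.range f).biUnion fun j => C (P.deg * j) := by
    intro σ hσ
    have hd := (Finset.mem_filter.1 hσ).2
    have hval := le_one_of_mem_decomposition hd
    let ι : Q.O →+* Q.O :=
      { toFun := fun x => ⟨σ x, (mem_O Q).2 ((hval x).le.trans ((mem_O Q).1 x.2))⟩
        map_one' := Subtype.ext (map_one σ)
        map_mul' := fun x y => Subtype.ext (map_mul σ _ _)
        map_zero' := Subtype.ext (map_zero σ)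
        map_add' := fun x y => Subtype.ext (map_add σ _ _) }
    let φ : F →ₐ[k] F :=
      { toRingHom := Ideal.Quotient.lift _ ((IsLocalRing.residue Q.O).comp ι) fun x hx => by
          rw [mem_maximalIdeal] at hx
          rw [RingHom.comp_apply, IsLocalRing.residue_eq_zero_iff, mem_maximalIdeal]
          exact lt_of_le_of_lt (hval x).le hx
        commutes' := fun c => congrArg (IsLocalRing.residue Q.O) (Subtype.ext (show
          σ (algebraMap k K' c) = algebraMap k K' c by
            rw [IsScalarTower.algebraMap_apply k K K', σ.commutes])) }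
    have hbij : Function.Bijective φ := Finite.injective_iff_bijective.1 φ.toRingHom.injective
    obtain ⟨⟨i, hi⟩, hφ⟩ := (FiniteField.bijective_frobeniusAlgEquivOfAlgebraic_pow k F).2
      (AlgEquiv.ofBijective φ hbij)
    have hfrob : IsFrob σ (Nat.card k ^ i) Q := by
      intro z hz
      have h1 := DFunLike.congr_fun hφ (IsLocalRing.residue Q.O ⟨z, (mem_O Q).2 hz⟩)
      simp only [AlgEquiv.coe_pow] at h1
      rw [FiniteField.coe_frobeniusAlgEquivOfAlgebraic_iterate] at h1
      change (IsLocalRing.residue Q.O ⟨z, (mem_O Q).2 hz⟩) ^ (Fintype.card k ^ i) =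
        IsLocalRing.residue Q.O (ι ⟨z, (mem_O Q).2 hz⟩) at h1
      rw [← map_pow, eq_comm, ← sub_eq_zero, ← map_sub, IsLocalRing.residue_eq_zero_iff, mem_maximalIdeal,
        ← Nat.card_eq_fintype_card] at h1
      exact h1
    obtain ⟨j, hj⟩ := deg_below_dvd hK (fun x => σ.commutes x) hov hfrob
    have hi' : i < Q.deg := hi
    refine Finset.mem_biUnion.2 ⟨j, Finset.mem_range.2 ?_, Finset.mem_filter.2 ⟨Finset.mem_univ _, hj ▸ hfrob⟩⟩
    rw [hj, hf] at hi'
    exact Nat.lt_of_mul_lt_mul_left hi'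
  have hDcard : D.card = e * f := by
    have h1 := card_decomposition_mul_deg hK.1 he
    rw [hf] at h1
    have h2 : Nat.card ((Q.O).decompositionSubgroup K) = D.card := by
      rw [Nat.card_eq_fintype_card, Fintype.card_subtype]
    rw [h2, mul_comm P.deg f, ← mul_assoc] at h1
    exact Nat.eq_of_mul_eq_mul_right hPpos h1
  have hsum : e * f ≤ ∑ j ∈ Finset.range f, (C (P.deg * j)).card :=
    hDcard ▸ (Finset.card_le_card hcover).trans Finset.card_biUnion_le
  have heq : ∀ j ∈ Finset.range f, (C (P.deg * j)).card = e := by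
    intro j hj
    refine le_antisymm (hle _) ?_
    by_contra! hlt
    have := Finset.sum_lt_sum (s := Finset.range f) (fun j _ => hle (P.deg * j)) ⟨j, hj, hlt⟩
    rw [Finset.sum_const, Finset.card_range, smul_eq_mul] at this
    rw [mul_comm] at hsum
    omega
  -- reduce `R` modulo the degree
  have hred : C R = C (R % Q.deg) := by
    ext σ
    simp only [C, Finset.mem_filter, Finset.mem_univ, true_and]
    constructor
    · intro h z hz
      rw [show σ z - z ^ Nat.card k ^ (R % Q.deg) = (σ z - z ^ Nat.card k ^ R) -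
        (z ^ Nat.card k ^ (R % Q.deg) - z ^ Nat.card k ^ R) by ring]
      exact lt_of_le_of_lt (Q.1.map_sub _ _) (max_lt (h z hz) (val_pow_card_sub hK' hz R))
    · intro h z hz
      rw [show σ z - z ^ Nat.card k ^ R = (σ z - z ^ Nat.card k ^ (R % Q.deg)) +
        (z ^ Nat.card k ^ (R % Q.deg) - z ^ Nat.card k ^ R) by ring]
      exact lt_of_le_of_lt (Q.1.map_add _ _) (max_lt (h z hz) (val_pow_card_sub hK' hz R))
  obtain ⟨j, hj⟩ : P.deg ∣ R % Q.deg := (Nat.dvd_mod_iff ⟨f, hf⟩).2 hR
  have hjf : j < f := by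
    have h1 := Nat.mod_lt R hQpos
    rw [hj, hf] at h1
    exact Nat.lt_of_mul_lt_mul_left h1
  rw [← heq j (Finset.mem_range.2 hjf), ← hj, ← hred, Nat.card_eq_fintype_card, Fintype.card_subtype]

/-- The places where `σ` acts as the `q ^ R` Frobenius. -/
def frobPlaces (k : Type*) [Field k] {K' : Type*} [Field K'] [Algebra k K'] (σ : K' → K') (R : ℕ) :
    Set (Place k K') := {Q | IsFrob σ (Nat.card k ^ R) Q}

omit [IsGalois K K'] in
lemma finite_frobPlaces (hK : IsFunctionField k K) (σ : K' ≃ₐ[K] K') {R : ℕ} (hR : 0 < R) :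
    (frobPlaces k (⇑σ) R).Finite := by
  refine ((Zeta.finite_deg_le hK.1 R).biUnion fun P _ => finite_over (K' := K') hK.1 P).subset fun Q hQ => ?_
  obtain ⟨P, hP⟩ := exists_below (K := K) hK.1 Q
  exact Set.mem_iUnion₂.2 ⟨P, Nat.le_of_dvd hR (deg_below_dvd hK (fun x => σ.commutes x) hP hQ), hP⟩

/-- The weighted count of all Frobenius elements is `[K' : K]` times the point count. -/
theorem sum_frob (hK : IsFunctionField k K) (hK' : IsFunctionField k K') {R : ℕ} (hR : 0 < R) :
    ∑ σ : K' ≃ₐ[K] K', ∑ᶠ (Q : Place k K') (_ : Q ∈ frobPlaces k (⇑σ) R), Q.deg =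
      Module.finrank K K' * Zeta.ptCount k K R := by
  classical
  have hfin : {P : Place k K | P.deg ∣ R}.Finite :=
    (Zeta.finite_deg_le hK.1 R).subset fun P hP => Nat.le_of_dvd hR hP
  let S : Finset (Place k K') := hfin.toFinset.biUnion fun P => (finite_over (K' := K') hK.1 P).toFinset
  have hS : ∀ (Q : Place k K') (P : Place k K), IsOver Q P → (Q ∈ S ↔ P.deg ∣ R) := by
    intro Q P hQP
    simp only [S, Finset.mem_biUnion, Set.Finite.mem_toFinset, Set.mem_setOf_eq]
    exact ⟨fun ⟨P', h1, h2⟩ => isOver_unique h2 hQP ▸ h1, fun h => ⟨P, h, hQP⟩⟩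
  have h1 : ∀ σ : K' ≃ₐ[K] K', ∑ᶠ (Q : Place k K') (_ : Q ∈ frobPlaces k (⇑σ) R), Q.deg =
      ∑ Q ∈ S, if IsFrob σ (Nat.card k ^ R) Q then Q.deg else 0 := by
    intro σ
    rw [← Finset.sum_filter]
    refine finsum_mem_eq_sum_of_inter_support_eq _ ?_
    ext Q
    simp only [frobPlaces, Set.mem_inter_iff, Set.mem_setOf_eq, Finset.coe_filter, Function.mem_support]
    refine ⟨fun ⟨h, h'⟩ => ⟨⟨?_, h⟩, h'⟩, fun ⟨⟨_, h⟩, h'⟩ => ⟨h, h'⟩⟩
    obtain ⟨P, hP⟩ := exists_below (K := K) hK.1 Q
    exact (hS Q P hP).2 (deg_below_dvd hK (fun x => σ.commutes x) hP h)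
  rw [Finset.sum_congr rfl fun σ _ => h1 σ, Finset.sum_comm, Zeta.ptCount,
    finsum_mem_eq_finite_toFinset_sum _ hfin, Finset.mul_sum]
  rw [show S = hfin.toFinset.biUnion fun P => (finite_over (K' := K') hK.1 P).toFinset from rfl,
    Finset.sum_biUnion]
  · refine Finset.sum_congr rfl fun P hP => ?_
    obtain ⟨hf, hfund⟩ := fundamental (K' := K') hK.1 P
    rw [← hfund _ (fun Q => (finite_over (K' := K') hK.1 P).mem_toFinset)]
    refine Finset.sum_congr rfl fun Q hQ => ?_
    have hQP := (finite_over (K' := K') hK.1 P).mem_toFinset.1 hQ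
    rw [← Finset.sum_filter, Finset.sum_const, smul_eq_mul,
      ← card_frob hK hK' (isOverWith_ramIdx hQP) (hfin.mem_toFinset.1 hP)]
    congr 1
    exact (Nat.subtype_card _ (by simp)).symm
  · intro P _ P' _ hne
    simp only [Function.onFun, Finset.disjoint_left, Set.Finite.mem_toFinset]
    exact fun Q h h' => hne (isOver_unique h h')

end Groth.Agent.FFRH
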