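import Groth.Agent.FFRH.Twist
import Mathlib.FieldTheory.SeparablyGenerated
import Mathlib.FieldTheory.Normal.Closure

/-!
Galois closures with enlarged constants, and the asymptotic point bound.
-/

set_option autoImplicit false
set_option linter.style.haveILetI false
set_option linter.unusedSectionVars false

open FunFld WithZero Groth.Agent.FF IntermediateField

universe u v

namespace Groth.Agent.FFRH

variable {k : Type u} {K : Type v} [Field k] [Field K] [Algebra k K]

lemma exists_separating [PerfectField k] (hK : IsFunctionField k K) :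
    ∃ x : K, Transcendental k x ∧ Algebra.IsSeparable k⟮x⟯ K := by
  classical
  obtain ⟨y, hy, hfin⟩ := hK.1
  haveI : Algebra.EssFiniteType k k⟮y⟯ := IntermediateField.essFiniteType_iff.2
    ⟨{y}, by simp⟩
  haveI := hfin
  haveI : Algebra.EssFiniteType k K := Algebra.EssFiniteType.comp k k⟮y⟯ K
  obtain ⟨s, hs, hsep⟩ := exists_isTranscendenceBasis_and_isSeparable_of_perfectField k K
  haveI := hsep
  obtain ⟨a, ha⟩ : (s : Set K).Nonempty := by
    by_contra hne
    rw [Set.not_nonempty_iff_eq_empty] at hne
    have h1 : IsIntegral (IntermediateField.adjoin k (s : Set K)) y :=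
      Algebra.IsSeparable.isIntegral _ y
    rw [hne] at h1
    rw [IntermediateField.adjoin_empty] at h1
    exact hy ((isAlgebraic_iff_isIntegral).2 (isIntegral_trans (R := k) y h1))
  have hat : Transcendental k a := hs.1.transcendental ⟨a, ha⟩
  have hsing : (s : Set K) = {a} := by
    refine Set.eq_singleton_iff_unique_mem.2 ⟨ha, fun b hb => ?_⟩
    by_contra hne
    haveI := finite_adjoin hK.1 hat
    have h1 : IsAlgebraic k⟮a⟯ b := (Algebra.IsIntegral.isIntegral b).isAlgebraic
    have h2' := hs.1.comp ![(⟨b, hb⟩ : s), ⟨a, ha⟩] (by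
      intro i j h
      fin_cases i <;> fin_cases j <;> simp_all)
    have h2 : AlgebraicIndependent k ![b, a] := by
      convert h2' using 1
      funext i; fin_cases i <;> rfl
    have h3 := h2.transcendental_adjoin (s := {(1 : Fin 2)}) (i := 0) (by simp)
    rw [Set.image_singleton] at h3
    exact h3 ((isAlgebraic_adjoin_iff (s := ({a} : Set K))).1 h1)
  refine ⟨a, hat, ?_⟩
  rw [hsing] at hsep
  exact hsep

variable [Finite k]

lemma finite_constants {L : Type*} [Field L] [Algebra k L] (hL : IsFF k L) :
    Finite (algebraicClosure k L) := by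
  obtain ⟨P⟩ := nonempty_place hL
  set F := IsLocalRing.ResidueField P.O
  letI : Module k F := Algebra.toModule
  haveI : Module.Finite k F := finiteDimensional_residueField hL P
  haveI : Finite F := Module.finite_of_finite k
  have hval : ∀ c : algebraicClosure k L, (c : L) ≠ 0 → P.1 (c : L) = 1 := fun c hc =>
    val_eq_one_of_isAlgebraic (k := k) P.1 (fun a ha => val_const P ha)
      (mem_algebraicClosure_iff.1 c.2) hc
  have hmem : ∀ c : algebraicClosure k L, (c : L) ∈ P.O := fun c => by
    refine (mem_O P).2 ?_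
    rcases eq_or_ne (c : L) 0 with h | h
    · simp [h]
    · exact (hval c h).le
  let r : algebraicClosure k L →+* F :=
    (IsLocalRing.residue P.O).comp
      { toFun := fun c => ⟨c, hmem c⟩
        map_one' := rfl
        map_mul' := fun _ _ => rfl
        map_zero' := rfl
        map_add' := fun _ _ => rfl }
  exact Finite.of_injective r r.injective

omit [Finite k] in
lemma isFunctionField_of_full {c L : Type*} [Field c] [Field L] [Algebra k c] [Algebra k L]
    [Algebra c L] [IsScalarTower k c L] [Algebra.IsAlgebraic k c] (hL : IsFF k L)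
    (hfull : ∀ y : L, IsAlgebraic k y → y ∈ Set.range (algebraMap c L)) :
    IsFunctionField c L := by
  obtain ⟨x, hx, hfin⟩ := hL
  refine ⟨⟨x, hx.extendScalars c, ?_⟩, fun y hy => hfull y (hy.restrictScalars k)⟩
  haveI := hfin
  let b := Module.finBasis k⟮x⟯ L
  refine Module.finite_def.2 (Submodule.fg_def.2 ⟨Set.range b, Set.finite_range b,
    eq_top_iff.2 fun z _ => ?_⟩)
  rw [← b.sum_repr z]
  refine Submodule.sum_mem _ fun i _ => ?_
  have hle : k⟮x⟯ ≤ (c⟮x⟯).restrictScalars k :=
    IntermediateField.adjoin_le_iff.2 (IntermediateField.subset_adjoin c _)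
  exact Submodule.smul_mem (Submodule.span c⟮x⟯ (Set.range b))
    ⟨(b.repr z i : L), hle (b.repr z i).2⟩ (Submodule.subset_span ⟨i, rfl⟩)

omit [Finite k] [Field k] [Field K] [Algebra k K] in
lemma galois_of_compositum {F₀ N L M : Type*} [Field F₀] [Field N] [Field L] [Field M]
    [Algebra F₀ L] [Algebra F₀ N] [Algebra F₀ M] [Algebra L M] [Algebra N M]
    [IsScalarTower F₀ L M] [IsScalarTower F₀ N M]
    [FiniteDimensional F₀ L] [IsGalois F₀ L] [FiniteDimensional N M]
    (S : Set M) (hS : Algebra.adjoin L S = ⊤) (hSN : ∀ s ∈ S, s ∈ Set.range (algebraMap N M)) :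
    IsGalois N M := by
  classical
  obtain ⟨p, hp, hsplit⟩ := IsGalois.is_separable_splitting_field F₀ L
  haveI := hsplit
  have hmap : (p.map (algebraMap F₀ N)).map (algebraMap N M) =
      (p.map (algebraMap F₀ L)).map (algebraMap L M) := by
    rw [Polynomial.map_map, Polynomial.map_map, ← IsScalarTower.algebraMap_eq,
      ← IsScalarTower.algebraMap_eq]
  haveI : (p.map (algebraMap F₀ N)).IsSplittingField N M := by
    refine ⟨?_, ?_⟩
    · rw [hmap]
      exact (Polynomial.IsSplittingField.splits L p).map _
    · set A := Algebra.adjoin N ((p.map (algebraMap F₀ N)).rootSet M) with hA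
      have hL : ∀ z : L, algebraMap L M z ∈ A := by
        intro z
        have hz : z ∈ Algebra.adjoin F₀ (p.rootSet L) := by
          rw [Polynomial.IsSplittingField.adjoin_rootSet L p]; trivial
        induction hz using Algebra.adjoin_induction with
        | mem r hr =>
          refine Algebra.subset_adjoin ?_
          rw [Polynomial.mem_rootSet] at hr ⊢
          refine ⟨(Polynomial.map_ne_zero_iff (algebraMap F₀ N).injective).2 hr.1, ?_⟩
          rw [Polynomial.aeval_map_algebraMap, Polynomial.aeval_algebraMap_apply, hr.2, map_zero]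
        | algebraMap c =>
          rw [← IsScalarTower.algebraMap_apply, IsScalarTower.algebraMap_apply F₀ N M]
          exact A.algebraMap_mem _
        | add x y _ _ hx hy => rw [map_add]; exact add_mem hx hy
        | mul x y _ _ hx hy => rw [map_mul]; exact mul_mem hx hy
      refine eq_top_iff.2 fun z hzt => ?_
      clear hzt
      have hz : z ∈ Algebra.adjoin L S := by rw [hS]; trivial
      induction hz using Algebra.adjoin_induction with
      | mem r hr => obtain ⟨n, rfl⟩ := hSN r hr; exact A.algebraMap_mem n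
      | algebraMap c => exact hL c
      | add x y _ _ hx hy => exact add_mem hx hy
      | mul x y _ _ hx hy => exact mul_mem hx hy
  exact IsGalois.of_separable_splitting_field (p := p.map (algebraMap F₀ N)) hp.map

/-- The bound, given a Galois closure with a constant field making a place rational. -/
lemma bound_of_data (hK : IsFunctionField k K) {x : K} (hx : Transcendental k x)
    {F₀ : Type*} [Field F₀] [Algebra F₀ K] (hgen : ∀ z : F₀, algebraMap F₀ K z ∈ k⟮x⟯)
    {L c M : Type*} [Field L] [Field c] [Finite c] [Field M]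
    [Algebra F₀ L] [Algebra K L] [IsScalarTower F₀ K L] [FiniteDimensional F₀ L]
    [IsGalois F₀ L]
    [Algebra k c] [Algebra c M] [Algebra L M] [FiniteDimensional L M] [Algebra K M]
    [Algebra F₀ M] [Algebra k M]
    [IsScalarTower K L M] [IsScalarTower F₀ L M] [IsScalarTower F₀ K M] [IsScalarTower k c M]
    [IsScalarTower k K M] [FiniteDimensional K L]
    (hM : IsFunctionField c M) (hSt' : Algebra.adjoin L (Set.range (algebraMap c M)) = ⊤)
    {P₀ : Place c M} (hP₀ : P₀.deg = 1) :
    ∃ (n : ℕ) (C : ℝ) (J : ℕ), 0 < n ∧ ∀ a : ℕ, J ≤ a →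
      |(Zeta.ptCount k K (n * (2 * a)) : ℝ) - ((Nat.card k : ℝ) ^ n) ^ (2 * a)| ≤
        C * ((Nat.card k : ℝ) ^ n) ^ a := by
  classical
  haveI : Module.Finite F₀ M := Module.Finite.trans L M
  haveI : Module.Finite K M := Module.Finite.trans L M
  haveI : Module.Finite k c := Module.Finite.of_finite
  set S : Set M := Set.range (algebraMap c M) with hS
  have hSt : Algebra.adjoin L S = ⊤ := hSt'
  -- the rational subfield
  set xM : M := algebraMap K M x with hxM
  let F := IntermediateField.adjoin c ({xM} : Set M)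
  have hxk : ∀ z : F₀, algebraMap F₀ M z ∈ F := by
    intro z
    have hle : (k⟮x⟯).map (IsScalarTower.toAlgHom k K M) ≤ F.restrictScalars k := by
      rw [IntermediateField.adjoin_map, Set.image_singleton, IntermediateField.adjoin_le_iff,
        Set.singleton_subset_iff]
      exact IntermediateField.mem_adjoin_simple_self c xM
    rw [IsScalarTower.algebraMap_apply F₀ K M]
    exact hle ⟨_, hgen z, rfl⟩
  letI : Algebra F₀ F := ((algebraMap F₀ M).codRestrict F hxk).toAlgebra
  haveI : IsScalarTower F₀ F M := IsScalarTower.of_algebraMap_eq fun _ => rfl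
  haveI : Module.Finite F M := Module.Finite.of_restrictScalars_finite F₀ F M
  haveI : IsGalois F M := galois_of_compositum (F₀ := F₀) (L := L) S hSt fun s ⟨r, hr⟩ =>
    ⟨⟨s, hr ▸ F.algebraMap_mem r⟩, rfl⟩
  let tF : F := ⟨xM, IntermediateField.mem_adjoin_simple_self c xM⟩
  have htop : IntermediateField.adjoin c ({tF} : Set F) = ⊤ := by
    apply IntermediateField.map_injective F.val
    rw [IntermediateField.adjoin_map, Set.image_singleton, ← AlgHom.fieldRange_eq_map,
      IntermediateField.fieldRange_val]
    rfl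
  have htr : Transcendental k xM := fun h =>
    hx ((isAlgebraic_algebraMap_iff (algebraMap K M).injective).1 h)
  haveI : Algebra.IsAlgebraic k c := Algebra.IsAlgebraic.of_finite k c
  have hF : IsFunctionField c F := by
    refine ⟨⟨tF, fun h => (htr.extendScalars c) (h.algebraMap), ?_⟩, fun y hy => ?_⟩
    · rw [htop]
      exact Module.Finite.of_surjective
        ({ toFun := fun z => (z : F), map_add' := fun _ _ => rfl, map_smul' := fun _ _ => rfl } :
          (⊤ : IntermediateField c F) →ₗ[(⊤ : IntermediateField c F)] F) fun z => ⟨⟨z, trivial⟩, rfl⟩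
    · obtain ⟨r, hr⟩ := hM.2 (y : M) hy.algebraMap
      exact ⟨r, Subtype.ext hr⟩
  -- the constant extension of `K` inside `M`
  obtain ⟨γ, hγ⟩ := Field.exists_primitive_element k c
  have hγi : IsIntegral k γ := IsIntegral.of_finite k γ
  set γM : M := algebraMap c M γ
  let K₂ := IntermediateField.adjoin K ({γM} : Set M)
  have hcK : ∀ r : c, algebraMap c M r ∈ K₂ := by
    intro r
    have hr : r ∈ k⟮γ⟯ := by rw [hγ]; trivial
    have hle : (k⟮γ⟯).map (IsScalarTower.toAlgHom k c M) ≤ K₂.restrictScalars k := by
      rw [IntermediateField.adjoin_map, Set.image_singleton, IntermediateField.adjoin_le_iff,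
        Set.singleton_subset_iff]
      exact IntermediateField.mem_adjoin_simple_self K γM
    exact hle ⟨r, hr, rfl⟩
  letI : Algebra c K₂ := ((algebraMap c M).codRestrict K₂ hcK).toAlgebra
  haveI : IsScalarTower c K₂ M := IsScalarTower.of_algebraMap_eq fun _ => rfl
  haveI : IsScalarTower k c K₂ := IsScalarTower.of_algebraMap_eq fun r => Subtype.ext (by
    show algebraMap k M r = algebraMap c M (algebraMap k c r)
    rw [← IsScalarTower.algebraMap_apply])
  haveI : Module.Finite K₂ M := Module.Finite.of_restrictScalars_finite K K₂ M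
  haveI : IsGalois K₂ M := by
    letI : Algebra F₀ K₂ := ((algebraMap K K₂).comp (algebraMap F₀ K)).toAlgebra
    haveI : IsScalarTower F₀ K₂ M := IsScalarTower.of_algebraMap_eq fun z => by
      rw [IsScalarTower.algebraMap_apply F₀ K M, IsScalarTower.algebraMap_apply K K₂ M]; rfl
    refine galois_of_compositum (F₀ := F₀) (L := L) S hSt fun s ⟨r, hr⟩ => ⟨⟨s, hr ▸ hcK r⟩, rfl⟩
  have hce₂ : IsConstExt k K c K₂ := by
    refine ⟨fun r => Subtype.ext (show algebraMap K M (algebraMap k K r) = algebraMap c M (algebraMap k c r) by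
      rw [← IsScalarTower.algebraMap_apply, ← IsScalarTower.algebraMap_apply]), ?_, ?_⟩
    · have hγK : IsIntegral K γM := IsIntegral.of_finite K γM
      have htopK : IntermediateField.adjoin K ({IntermediateField.AdjoinSimple.gen K γM} : Set K₂) = ⊤ := by
        apply IntermediateField.map_injective K₂.val
        rw [IntermediateField.adjoin_map, Set.image_singleton, ← AlgHom.fieldRange_eq_map,
          IntermediateField.fieldRange_val]
        rfl
      rw [eq_top_iff]
      intro z _
      have hz : z ∈ Algebra.adjoin K ({IntermediateField.AdjoinSimple.gen K γM} : Set K₂) := by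
        rw [← IntermediateField.adjoin_simple_toSubalgebra_of_isAlgebraic
          (Algebra.IsAlgebraic.isAlgebraic _), htopK]
        trivial
      exact Algebra.adjoin_mono (Set.singleton_subset_iff.2 (Set.mem_range.2 ⟨γ, Subtype.ext rfl⟩)) hz
    · have hi : IsIntegral k γM := hγi.map (IsScalarTower.toAlgHom k c M)
      have h2 : minpoly K γM = (minpoly k γM).map (algebraMap k K) :=
        (minpoly.eq_of_irreducible_of_monic (irreducible_map hK (minpoly.monic hi) (minpoly.irreducible hi))
          (by rw [Polynomial.aeval_map_algebraMap, minpoly.aeval]) ((minpoly.monic hi).map _)).symm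
      rw [IntermediateField.adjoin.finrank hi.tower_top, h2, Polynomial.natDegree_map,
        minpoly.algebraMap_eq (algebraMap c M).injective γ, ← IntermediateField.adjoin.finrank hγi, hγ,
        IntermediateField.finrank_top']
  have hK₂ : IsFunctionField c K₂ := isFunctionField_constExt hK hce₂
  have hincl : ∀ y : F, ∃ z : K₂, algebraMap F M y = algebraMap K₂ M z := by
    intro y
    have hle : F ≤ IntermediateField.map (IsScalarTower.toAlgHom c K₂ M) ⊤ := by
      rw [IntermediateField.adjoin_le_iff, Set.singleton_subset_iff, ← AlgHom.fieldRange_eq_map]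
      exact ⟨algebraMap K K₂ x, rfl⟩
    obtain ⟨z, -, hz⟩ := hle y.2
    exact ⟨z, hz.symm⟩
  haveI : IsScalarTower c F M := IsScalarTower.of_algebraMap_eq fun _ => rfl
  obtain ⟨C, J, hJ⟩ := twist_bound hF hK₂ hM htop hincl hP₀
  refine ⟨Module.finrank k c, C, max J 1, Module.finrank_pos, fun a ha => ?_⟩
  have h := hJ a (le_of_max_le_left ha)
  rw [CE.ptCount_constExt hK hce₂ (by omega), Module.natCard_eq_pow_finrank (K := k) (V := c)] at h
  push_cast at h
  exact h

/-- The bound, given a Galois closure with known constants. -/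
lemma bound_of_closure (hK : IsFunctionField k K) {x : K} (hx : Transcendental k x)
    {F₀ : Type*} [Field F₀] [Algebra F₀ K] (hgen : ∀ z : F₀, algebraMap F₀ K z ∈ k⟮x⟯)
    {L : Type v} [Field L] [Algebra k L] [Algebra F₀ L] [Algebra K L] [IsScalarTower F₀ K L]
    [IsScalarTower k K L] [FiniteDimensional F₀ L] [FiniteDimensional K L] [IsGalois F₀ L]
    {c₁ : Type v} [Field c₁] [Finite c₁] [Algebra k c₁] [Algebra c₁ L] [IsScalarTower k c₁ L]
    (hL : IsFunctionField c₁ L) :
    ∃ (n : ℕ) (C : ℝ) (J : ℕ), 0 < n ∧ ∀ a : ℕ, J ≤ a →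
      |(Zeta.ptCount k K (n * (2 * a)) : ℝ) - ((Nat.card k : ℝ) ^ n) ^ (2 * a)| ≤
        C * ((Nat.card k : ℝ) ^ n) ^ a := by
  classical
  -- a constant extension with a rational place
  obtain ⟨P₁⟩ := nonempty_place hL.1
  set d := P₁.deg
  have hd : 0 < d := deg_pos hL.1 P₁
  haveI : NeZero d := ⟨hd.ne'⟩
  obtain ⟨p, hp⟩ := CharP.exists c₁
  haveI : Fact p.Prime := ⟨CharP.char_is_prime c₁ p⟩
  obtain ⟨f, hf, φ, hce⟩ := exists_constExt hL d p
  let c := FiniteField.Extension c₁ p d
  let M := AdjoinRoot f
  letI : Algebra c M := φ.toAlgebra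
  haveI : IsScalarTower c₁ c M := IsScalarTower.of_algebraMap_eq fun r => by
    rw [← hce.1 r]; rfl
  have hM : IsFunctionField c M := isFunctionField_constExt hL hce
  haveI := CE.finiteDimensional hce
  haveI : Module.Finite c₁ c := Module.Finite.of_finite
  obtain ⟨P₂, hP₂⟩ := exists_over (K' := M) hL.1 P₁
  obtain ⟨-, -, hdeg⟩ := CE.local_structure hL hce hP₂
  have hn : Module.finrank c₁ c = d := FiniteField.finrank_extension c₁ p d
  set P₀ : Place c M := CE.toTop (k' := c) P₂
  have hP₀ : P₀.deg = 1 := by
    have h1 : (CE.toBot (k := c₁) P₀).deg = d * P₀.deg := by rw [CE.deg_toBot, hn]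
    rw [show CE.toBot (k := c₁) P₀ = P₂ from Subtype.ext rfl] at h1
    rw [hn, Nat.gcd_self, mul_comm] at hdeg
    have h2 : P₂.deg = d := Nat.eq_of_mul_eq_mul_left hd hdeg
    rw [h2] at h1
    exact (Nat.eq_of_mul_eq_mul_left hd (by omega : d * 1 = d * P₀.deg)).symm
  -- towers
  letI : Algebra k c := ((algebraMap c₁ c).comp (algebraMap k c₁)).toAlgebra
  haveI : IsScalarTower k c₁ c := IsScalarTower.of_algebraMap_eq fun _ => rfl
  haveI : IsScalarTower k c M := IsScalarTower.of_algebraMap_eq fun r => by
    rw [IsScalarTower.algebraMap_apply k c₁ c, ← IsScalarTower.algebraMap_apply c₁ c M,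
      ← IsScalarTower.algebraMap_apply k c₁ M]
  haveI : IsScalarTower k K M := IsScalarTower.of_algebraMap_eq fun r => by
    rw [IsScalarTower.algebraMap_apply k L M, IsScalarTower.algebraMap_apply K L M,
      ← IsScalarTower.algebraMap_apply k K L]
  haveI : IsScalarTower F₀ L M := IsScalarTower.of_algebraMap_eq fun _ => rfl
  haveI : IsScalarTower F₀ K M := IsScalarTower.of_algebraMap_eq fun z => by
    rw [IsScalarTower.algebraMap_apply F₀ L M, IsScalarTower.algebraMap_apply K L M,
      ← IsScalarTower.algebraMap_apply F₀ K L]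
  exact bound_of_data hK hx hgen hM hce.2.1 hP₀

/-- Point counts along an arithmetic progression of constant extensions. -/
theorem exists_bound (hK : IsFunctionField k K) :
    ∃ (n : ℕ) (C : ℝ) (J : ℕ), 0 < n ∧ ∀ a : ℕ, J ≤ a →
      |(Zeta.ptCount k K (n * (2 * a)) : ℝ) - ((Nat.card k : ℝ) ^ n) ^ (2 * a)| ≤
        C * ((Nat.card k : ℝ) ^ n) ^ a := by
  classical
  obtain ⟨x, hx, hsep⟩ := exists_separating hK
  haveI := finite_adjoin hK.1 hx
  haveI := hsep
  let Ω := SeparableClosure K
  -- the Galois closure
  let L := normalClosure k⟮x⟯ K Ω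
  haveI : Algebra.IsSeparable k⟮x⟯ Ω := Algebra.IsSeparable.trans k⟮x⟯ K Ω
  haveI : IsSepClosure k⟮x⟯ Ω := ⟨inferInstance, inferInstance⟩
  haveI : IsGalois k⟮x⟯ Ω := inferInstance
  haveI : IsGalois k⟮x⟯ L := IsGalois.normalClosure k⟮x⟯ K Ω
  haveI : IsScalarTower k K L := IsScalarTower.of_algebraMap_eq fun c => by
    rw [IsScalarTower.algebraMap_apply k k⟮x⟯ L, IsScalarTower.algebraMap_apply k⟮x⟯ K L,
      ← IsScalarTower.algebraMap_apply k k⟮x⟯ K]
  haveI : FiniteDimensional K L := FiniteDimensional.right k⟮x⟯ K L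
  have hLff : IsFF k L := isFF_ext (K' := L) hK.1
  let c₁ := algebraicClosure k L
  haveI : Finite c₁ := finite_constants hLff
  have hL : IsFunctionField c₁ L := isFunctionField_of_full hLff fun y hy =>
    ⟨⟨y, mem_algebraicClosure_iff.2 hy⟩, rfl⟩
  exact bound_of_closure hK hx (F₀ := k⟮x⟯) (fun z => z.2) hL

end Groth.Agent.FFRH
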