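import Groth.Agent.FFRH.FrobCount
import Groth.Agent.FF.ZetaMain

/-!
The two-sided point bound from a Galois extension of a rational function field.
-/

set_option autoImplicit false
set_option linter.style.haveILetI false
set_option linter.unusedSectionVars false

open FunFld WithZero Groth.Agent.FF

namespace Groth.Agent.FFRH

lemma ptCount_rational {k F : Type*} [Field k] [Finite k] [Field F] [Algebra k F]
    (hF : IsFunctionField k F) {t : F} (ht : IntermediateField.adjoin k ({t} : Set F) = ⊤)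
    {j : ℕ} (hj : 1 ≤ j) : Zeta.ptCount k F j = Nat.card k ^ j + 1 := by
  obtain ⟨α, -, hα, -⟩ := Zeta.exists_roots hF
  have h := Zeta.ptCount_eq hF α hα hj
  haveI : IsEmpty (Fin (2 * genus k F)) := by
    rw [genus_eq_zero_of_rational hF ht, Nat.mul_zero]; infer_instance
  rw [Finset.univ_eq_empty, Finset.sum_empty, sub_zero] at h
  rw [add_comm]
  exact_mod_cast h

theorem twist_bound {c F E M : Type*} [Field c] [Finite c] [Field F] [Field E] [Field M]
    [Algebra c F] [Algebra c E] [Algebra c M] [Algebra F M] [Algebra E M]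
    [IsScalarTower c F M] [IsScalarTower c E M]
    [FiniteDimensional F M] [FiniteDimensional E M] [IsGalois F M] [IsGalois E M]
    (hF : IsFunctionField c F) (hE : IsFunctionField c E) (hM : IsFunctionField c M)
    {t : F} (ht : IntermediateField.adjoin c ({t} : Set F) = ⊤)
    (hincl : ∀ y : F, ∃ z : E, algebraMap F M y = algebraMap E M z)
    {P₀ : Place c M} (hP₀ : P₀.deg = 1) :
    ∃ (C : ℝ) (J : ℕ), ∀ a : ℕ, J ≤ a →
      |(Zeta.ptCount c E (2 * a) : ℝ) - (Nat.card c : ℝ) ^ (2 * a)| ≤ C * (Nat.card c : ℝ) ^ a := by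
  classical
  set g := genus c M
  set q := Nat.card c
  refine ⟨(Fintype.card (M ≃ₐ[F] M) : ℝ) * (2 * g + 1), g * g + 3 * g + 3 + 1, fun a ha => ?_⟩
  have hq2 : 2 ≤ q := by exact_mod_cast Zeta.card_ge_two c
  have hqa : g * g + 3 * g + 3 ≤ q ^ a :=
    (show g * g + 3 * g + 3 ≤ a by omega).trans (Nat.lt_pow_self (n := a) hq2).le
  have h2a : 0 < 2 * a := by omega
  set Q := q ^ (2 * a) with hQ
  set B := Q + (2 * g + 1) * q ^ a with hB
  -- bound for each twist
  let T : (M → M) → ℕ := fun σ => ∑ᶠ (P : Place c M) (_ : P ∈ frobPlaces c σ (2 * a)), P.deg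
  have hT : ∀ (σ : M ≃ₐ[c] M), (frobPlaces c (⇑σ) (2 * a)).Finite → T σ ≤ B := by
    intro σ hfin
    have h := bombieri hM hP₀ σ a hqa hfin.toFinset fun P hP => by
      have h1 : IsFrob σ (q ^ (2 * a)) P := hfin.mem_toFinset.1 hP
      rwa [mul_comm 2 a, pow_mul] at h1
    have e : T σ = ∑ P ∈ hfin.toFinset, P.deg := finsum_mem_eq_finite_toFinset_sum _ hfin
    have hpow : q ^ (2 * a) = (q ^ a) ^ 2 := by ring
    rw [e, hB, hQ, hpow]
    zify
    exact h
  have hTF : ∀ σ : M ≃ₐ[F] M, T σ ≤ B := fun σ =>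
    hT (σ.restrictScalars c) (finite_frobPlaces hF σ h2a)
  have hTE : ∀ σ : M ≃ₐ[E] M, T σ ≤ B := fun σ =>
    hT (σ.restrictScalars c) (finite_frobPlaces hE σ h2a)
  have hG : ∑ σ : M ≃ₐ[F] M, T σ = Fintype.card (M ≃ₐ[F] M) * (Q + 1) := by
    refine (sum_frob hF hM h2a).trans ?_
    rw [ptCount_rational hF ht h2a, ← IsGalois.card_aut_eq_finrank, Nat.card_eq_fintype_card]
  have hH : ∑ σ : M ≃ₐ[E] M, T σ = Fintype.card (M ≃ₐ[E] M) * Zeta.ptCount c E (2 * a) := by
    refine (sum_frob hE hM h2a).trans ?_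
    rw [← IsGalois.card_aut_eq_finrank, Nat.card_eq_fintype_card]
  let ι : (M ≃ₐ[E] M) → (M ≃ₐ[F] M) := fun σ =>
    { σ.toRingEquiv with
      commutes' := fun y => by
        obtain ⟨z, hz⟩ := hincl y
        show σ (algebraMap F M y) = algebraMap F M y
        rw [hz, σ.commutes] }
  have hι : Function.Injective ι := fun σ τ h => AlgEquiv.ext fun x => DFunLike.congr_fun h x
  have hTι : ∀ σ, T (ι σ) = T σ := fun σ => rfl
  set S := Finset.univ.image ι with hS
  have hScard : S.card = Fintype.card (M ≃ₐ[E] M) := Finset.card_image_of_injective _ hι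
  have hSsum : ∑ σ ∈ S, T σ = ∑ σ : M ≃ₐ[E] M, T σ := by
    rw [Finset.sum_image fun x _ y _ h => hι h]
    exact Finset.sum_congr rfl fun σ _ => hTι σ
  have hlow : Fintype.card (M ≃ₐ[F] M) * (Q + 1) + S.card * B ≤
      ∑ σ : M ≃ₐ[E] M, T σ + Fintype.card (M ≃ₐ[F] M) * B := by
    have h1 : ∑ σ ∈ Finset.univ \ S, T σ ≤ (Finset.univ \ S).card * B := by
      have := Finset.sum_le_card_nsmul (Finset.univ \ S) (fun σ : M ≃ₐ[F] M => T σ) B (fun σ _ => hTF σ)
      simpa using this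
    have h2 := Finset.sum_sdiff (S.subset_univ) (f := fun σ : M ≃ₐ[F] M => T σ)
    have h3 := Finset.card_sdiff_add_card_eq_card S.subset_univ
    rw [Finset.card_univ] at h3
    rw [hG, hSsum] at h2
    rw [← h2, ← h3, add_mul]
    omega
  have hup : ∑ σ : M ≃ₐ[E] M, T σ ≤ Fintype.card (M ≃ₐ[E] M) * B := by
    have := Finset.sum_le_card_nsmul Finset.univ (fun σ : M ≃ₐ[E] M => T σ) B (fun σ _ => hTE σ)
    simpa using this
  rw [hScard, hH] at hlow
  rw [hH] at hup
  set h := Fintype.card (M ≃ₐ[E] M)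
  set G := Fintype.card (M ≃ₐ[F] M)
  set N := Zeta.ptCount c E (2 * a)
  have hh : 1 ≤ h := Fintype.card_pos
  have hhG : h ≤ G := Fintype.card_le_of_injective ι hι
  have hup' : (N : ℝ) ≤ B := by exact_mod_cast Nat.le_of_mul_le_mul_left hup hh
  have hlow' : (G : ℝ) * ((Q : ℝ) + 1) + (h : ℝ) * (B : ℝ) ≤ (h : ℝ) * N + G * B := by
    exact_mod_cast hlow
  have hQr : (Q : ℝ) = (q : ℝ) ^ (2 * a) := by simp [hQ]
  have hBr : (B : ℝ) = (Q : ℝ) + (2 * g + 1) * (q : ℝ) ^ a := by simp [hB]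
  rw [← hQr]
  set X := (2 * (g : ℝ) + 1) * (q : ℝ) ^ a with hX
  have hX0 : 0 ≤ X := by positivity
  have hG1 : (1 : ℝ) ≤ G := by exact_mod_cast hh.trans hhG
  have hh1 : (1 : ℝ) ≤ h := by exact_mod_cast hh
  rw [mul_assoc, ← hX]
  rw [hBr] at hup' hlow'
  rw [abs_le]
  constructor
  · by_contra! hc
    have h1 : (G : ℝ) * X < (Q : ℝ) - N := by linarith
    have h2 : ((Q : ℝ) - N) ≤ h * ((Q : ℝ) - N) := le_mul_of_one_le_left (by nlinarith) hh1
    nlinarith
  · nlinarith

end Groth.Agent.FFRH
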